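import Cfsg.Agent.Cit.Defs
import Cfsg.Agent.Cit.OneBasic
import Cfsg.Agent.StdEven.Syl
import Cfsg.Agent.OddOrderLocal.NilParts

/-!
# S1309 (6b)(7), `r = 1`, nil world: the closure `AN(s)` (helper472, bb R18 #13772)

Abstract form: `Z` is a class of involutions, `K z` (`z ∈ Z`) a quaternion group of order 8 with involution `z`,
equivariant.  `Cm (K z) (K u)`: `(z, u)` is a C-pair.
-/

set_option autoImplicit false
set_option linter.unusedSectionVars false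

namespace Cfsg.Agent.Cit.Nil.AN

open Subgroup Cfsg.Agent.Cit Cfsg.Agent.StdEven.Syl Cfsg.Agent.OddOrderLocal.NilParts

variable {G : Type*} [Group G]

/-- elementwise commuting -/
def Cm (K L : Subgroup G) : Prop := ∀ k ∈ K, ∀ l ∈ L, k * l = l * k

theorem Cm.symm {K L : Subgroup G} (h : Cm K L) : Cm L K := fun l hl k hk => (h k hk l hl).symm

theorem Cm.cj {K L : Subgroup G} (h : Cm K L) (g : G) : Cm (cj g K) (cj g L) := by
  intro k hk l hl
  rw [mem_cj] at hk hl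
  have h1 := h _ hk _ hl
  calc k * l = g * ((g⁻¹ * k * g) * (g⁻¹ * l * g)) * g⁻¹ := by group
    _ = g * ((g⁻¹ * l * g) * (g⁻¹ * k * g)) * g⁻¹ := by rw [h1]
    _ = l * k := by group

/-- `s` centralises `K` -/
def Ce (s : G) (K : Subgroup G) : Prop := ∀ k ∈ K, s * k = k * s

theorem Ce.one (K : Subgroup G) : Ce (1 : G) K := fun k _ => by rw [one_mul, mul_one]

theorem Ce.mul {s t : G} {K : Subgroup G} (hs : Ce s K) (ht : Ce t K) : Ce (s * t) K := fun k hk => by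
  calc s * t * k = s * (t * k) := by group
    _ = s * (k * t) := by rw [ht k hk]
    _ = (s * k) * t := by group
    _ = k * (s * t) := by rw [hs k hk]; group

theorem Ce.inv {s : G} {K : Subgroup G} (hs : Ce s K) : Ce s⁻¹ K := fun k hk => by
  calc s⁻¹ * k = s⁻¹ * (k * s) * s⁻¹ := by group
    _ = s⁻¹ * (s * k) * s⁻¹ := by rw [hs k hk]
    _ = k * s⁻¹ := by group

theorem Ce.cj {s : G} {K : Subgroup G} (h : Ce s K) (g : G) : Ce (g * s * g⁻¹) (cj g K) := by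
  intro k hk
  rw [mem_cj] at hk
  have h1 := h _ hk
  calc g * s * g⁻¹ * k = g * (s * (g⁻¹ * k * g)) * g⁻¹ := by group
    _ = g * ((g⁻¹ * k * g) * s) * g⁻¹ := by rw [h1]
    _ = k * (g * s * g⁻¹) := by group

/-- The `r = 1` world, abstractly (several classes, no nilpotency). -/
structure BW (Z : Set G) (K : G → Subgroup G) : Prop where
  sq : ∀ z ∈ Z, z * z = 1
  ne : ∀ z ∈ Z, z ≠ 1
  mem : ∀ z ∈ Z, z ∈ K z
  card : ∀ z ∈ Z, Nat.card (K z) = 8
  uniq : ∀ z ∈ Z, ∀ v ∈ K z, v * v = 1 → v = 1 ∨ v = z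
  nonab : ∀ z ∈ Z, ∀ v ∈ K z, Ce v (K z) → v = 1 ∨ v = z
  conjZ : ∀ z ∈ Z, ∀ g : G, g * z * g⁻¹ ∈ Z
  conjK : ∀ z ∈ Z, ∀ g : G, K (g * z * g⁻¹) = cj g (K z)
  csymm : ∀ z ∈ Z, ∀ u ∈ Z, Ce u (K z) → z ≠ u → Cm (K z) (K u)
  com : ∀ z ∈ Z, ∀ u ∈ Z, z ≠ u → ∀ P : Subgroup G, IsPGroup 2 P → K z ≤ P → K u ≤ P → Cm (K z) (K u)
  /-- T-triple lemma (weak form: without `AN(u v)`) -/
  triple : ∀ x ∈ Z, ∀ u ∈ Z, ∀ v ∈ Z, Cm (K u) (K v) → x * u = u * x → x * v = v * x → ¬ Cm (K x) (K u) →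
    ¬ Cm (K x) (K v) → Ce (u * v) (K x) ∨ ∃ a ∈ K x, a * a = x ∧ u * a * u⁻¹ = a⁻¹ ∧ v * a * v⁻¹ = a⁻¹
  /-- an involution commuting with `a ∈ K x` of order 4 acts on `K x` as `1` or as `a` -/
  quat : ∀ x ∈ Z, ∀ a ∈ K x, a * a = x → ∀ t : G, t * t = 1 → t * a = a * t → Ce t (K x) ∨ Ce (t * a) (K x)
  /-- swap lemma -/
  swap : ∀ x ∈ Z, ∀ u ∈ Z, ∀ v ∈ Z, Cm (K u) (K v) → x * u * x⁻¹ = v → Ce (u * v) (K x)

/-- The nil `r = 1` world. -/
structure AW (Z : Set G) (K : G → Subgroup G) : Prop extends BW Z K where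
  cls : ∀ z ∈ Z, ∀ u ∈ Z, ∃ g : G, g * z * g⁻¹ = u
  nil : ∀ z ∈ Z, ∀ u ∈ Z, Cm (K z) (K u) → u ∈ oP 2 (centralizer {z})

/-- members over the 2-group `S` -/
def OmZ (Z : Set G) (K : G → Subgroup G) (S : Subgroup G) : Set G := {z | z ∈ Z ∧ K z ≤ S}

/-- the even part of `⟨OmZ⟩` -/
def T0 (Z : Set G) (K : G → Subgroup G) (S : Subgroup G) : Subgroup G :=
  closure {g | ∃ z ∈ OmZ Z K S, ∃ u ∈ OmZ Z K S, g = z * u}

/-- `⟨OmZ⟩` -/
def TS (Z : Set G) (K : G → Subgroup G) (S : Subgroup G) : Subgroup G := closure (OmZ Z K S)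

namespace BW

variable {Z : Set G} {K : G → Subgroup G} (w : BW Z K)

include w

theorem inv {z : G} (hz : z ∈ Z) : z⁻¹ = z := inv_eq_of_mul_eq_one_right (w.sq z hz)

theorem ce_self {z : G} (hz : z ∈ Z) : Ce z (K z) := by
  intro k hk
  have h1 : k * z * k⁻¹ ∈ K z := mul_mem (mul_mem hk (w.mem z hz)) (inv_mem hk)
  have h2 : (k * z * k⁻¹) * (k * z * k⁻¹) = 1 := by
    calc (k * z * k⁻¹) * (k * z * k⁻¹) = k * (z * z) * k⁻¹ := by group
      _ = 1 := by rw [w.sq z hz]; group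
  rcases w.uniq z hz _ h1 h2 with h3 | h3
  · exfalso
    apply w.ne z hz
    calc z = k⁻¹ * (k * z * k⁻¹) * k := by group
      _ = 1 := by rw [h3]; group
  · calc z * k = (k * z * k⁻¹) * k := by rw [h3]
      _ = k * z := by group

theorem K_le {z : G} (hz : z ∈ Z) : K z ≤ centralizer {z} := fun k hk =>
  mem_centralizer_singleton_iff.2 (w.ce_self hz k hk).symm

theorem K_nor {z g : G} (hz : z ∈ Z) (hg : g * z = z * g) : cj g (K z) = K z := by
  have h1 := w.conjK z hz g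
  have h2 : g * z * g⁻¹ = z := by rw [hg]; group
  rw [h2] at h1
  exact h1.symm

theorem two {z : G} (hz : z ∈ Z) : IsPGroup 2 (K z) := IsPGroup.of_card (n := 3) (by rw [w.card z hz]; rfl)

/-- a member is not commutative -/
theorem not_cm_self {z : G} (hz : z ∈ Z) : ¬ Cm (K z) (K z) := by
  intro h
  have h1 : ∀ v ∈ K z, v = 1 ∨ v = z := fun v hv => w.nonab z hz v hv (fun k hk => h v hv k hk)
  have h2 : (K z : Set G) ⊆ {1, z} := fun v hv => by
    rcases h1 v hv with h | h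
    · exact Or.inl h
    · exact Or.inr h
  have h3 : Nat.card (K z) ≤ 2 := by
    have h4 : Nat.card (K z) = (K z : Set G).ncard := rfl
    rw [h4]
    exact (Set.ncard_le_ncard h2 (Set.toFinite _)).trans (Set.ncard_insert_le _ _ |>.trans (by rw [Set.ncard_singleton]))
  rw [w.card z hz] at h3
  omega

theorem ne_of_cm {z u : G} (hz : z ∈ Z) (h : Cm (K z) (K u)) : z ≠ u := by
  rintro rfl
  exact w.not_cm_self hz h

theorem cm_conj {z u : G} (hz : z ∈ Z) (hu : u ∈ Z) (g : G) (h : Cm (K z) (K u)) :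
    Cm (K (g * z * g⁻¹)) (K (g * u * g⁻¹)) := by
  rw [w.conjK z hz, w.conjK u hu]
  exact h.cj g

theorem cm_conj_iff {z u : G} (hz : z ∈ Z) (hu : u ∈ Z) (g : G) :
    Cm (K (g * z * g⁻¹)) (K (g * u * g⁻¹)) ↔ Cm (K z) (K u) := by
  refine ⟨fun h => ?_, w.cm_conj hz hu g⟩
  have h1 := w.cm_conj (w.conjZ z hz g) (w.conjZ u hu g) g⁻¹ h
  have e : ∀ x : G, g⁻¹ * (g * x * g⁻¹) * g⁻¹⁻¹ = x := fun x => by group
  rwa [e, e] at h1

theorem cm_iff {z u : G} (hz : z ∈ Z) (hu : u ∈ Z) (hne : z ≠ u) : Cm (K z) (K u) ↔ Ce u (K z) :=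
  ⟨fun h k hk => (h k hk u (w.mem u hu)).symm, fun h => w.csymm z hz u hu h hne⟩

theorem comm_of_cm {z u : G} (hz : z ∈ Z) (hu : u ∈ Z) (h : Cm (K z) (K u)) : z * u = u * z :=
  h z (w.mem z hz) u (w.mem u hu)

/-! ### The members of a Sylow subgroup -/

variable [Finite G] {S : Subgroup G} (hS : IsSyl S ⊤)

theorem om_conj {z : G} (hz : z ∈ OmZ Z K S) (g : G) : g * z * g⁻¹ ∈ OmZ Z K (cj g S) :=
  ⟨w.conjZ z hz.1 g, by rw [w.conjK z hz.1]; exact cj_mono g hz.2⟩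

theorem om_cm {z u : G} (hz : z ∈ OmZ Z K S) (hu : u ∈ OmZ Z K S) (hne : z ≠ u) (hS2 : IsPGroup 2 S) :
    Cm (K z) (K u) := w.com z hz.1 u hu.1 hne S hS2 hz.2 hu.2

include hS

/-- a 2-group containing the members of `S` contains no others -/
theorem om_eq {P : Subgroup G} (hP : IsPGroup 2 P) (h : ∀ z ∈ OmZ Z K S, K z ≤ P) {u : G} (hu : u ∈ Z)
    (huP : K u ≤ P) : u ∈ OmZ Z K S := by
  obtain ⟨n, -, hn⟩ := hS.exists_conj hP le_top
  -- `P ≤ S' = cj n⁻¹ S`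
  have hPS : P ≤ cj n⁻¹ S := fun p hp => by
    rw [mem_cj, inv_inv]
    exact hn p hp
  have h1 : OmZ Z K S ⊆ (fun x => n⁻¹ * x * n) '' OmZ Z K S := by
    intro z hz
    have h2 : K z ≤ cj n⁻¹ S := (h z hz).trans hPS
    refine ⟨n * z * n⁻¹, ⟨w.conjZ z hz.1 n, ?_⟩, by group⟩
    rw [w.conjK z hz.1]
    have := cj_mono n h2
    rwa [cj_cj_inv] at this
  have hfin : (OmZ Z K S).Finite := Set.toFinite _
  have h2 : OmZ Z K S = (fun x => n⁻¹ * x * n) '' OmZ Z K S :=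
    Set.eq_of_subset_of_ncard_le h1 (Set.ncard_image_le hfin) (hfin.image _)
  rw [h2]
  refine ⟨n * u * n⁻¹, ⟨w.conjZ u hu n, ?_⟩, by group⟩
  rw [w.conjK u hu]
  have := cj_mono n (huP.trans hPS)
  rwa [cj_cj_inv] at this

/-- elements of 2-groups containing the members of `S` permute them -/
theorem om_perm {P : Subgroup G} (hP : IsPGroup 2 P) (h : ∀ z ∈ OmZ Z K S, K z ≤ P) {p : G} (hp : p ∈ P) {z : G}
    (hz : z ∈ OmZ Z K S) : p * z * p⁻¹ ∈ OmZ Z K S := by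
  apply w.om_eq hS hP h (w.conjZ z hz.1 p)
  rw [w.conjK z hz.1]
  intro x hx
  rw [mem_cj] at hx
  have : x = p * (p⁻¹ * x * p) * p⁻¹ := by group
  rw [this]
  exact mul_mem (mul_mem hp (h z hz hx)) (inv_mem hp)

/-- the product of the members of `S` -/
theorem exists_D : ∃ D ≤ S, IsPGroup 2 D ∧ (∀ z ∈ OmZ Z K S, K z ≤ D) ∧
    ∀ x : G, (∀ z ∈ OmZ Z K S, Ce x (K z)) → Ce x D := by
  refine ⟨⨆ z : OmZ Z K S, K z, iSup_le fun z => z.2.2, hS.two.to_le (iSup_le fun z => z.2.2),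
    fun z hz => le_iSup (fun z : OmZ Z K S => K z) ⟨z, hz⟩, ?_⟩
  intro x hx d hd
  have h1 : (⨆ z : OmZ Z K S, K z) ≤ centralizer {x} := iSup_le fun z k hk =>
    mem_centralizer_singleton_iff.2 (hx z z.2 k hk).symm
  exact (mem_centralizer_singleton_iff.1 (h1 hd)).symm

/-- a member commuting with the members of `S` is one of them -/
theorem om_of_cm {u : G} (hu : u ∈ Z) (h : ∀ z ∈ OmZ Z K S, z ≠ u → Cm (K z) (K u)) : u ∈ OmZ Z K S := by
  by_contra hno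
  obtain ⟨D, -, hD2, hKD, hD⟩ := w.exists_D hS
  have h1 : K u ≤ normalizer (D : Set G) := by
    intro k hk
    apply mem_normalizer_of_conj_le
    intro d hd
    have h2 : Ce k D := hD k (fun z hz k' hk' => (h z hz (fun e => hno (e ▸ hz)) k' hk' k hk).symm)
    have : k * d * k⁻¹ = d := by rw [h2 d hd]; group
    rw [this]; exact hd
  have h2 : IsPGroup 2 (K u ⊔ D : Subgroup G) := OneBasic.isPGroup_sup_of_normalizes (w.two hu) hD2 h1
  exact hno (w.om_eq hS h2 (fun z hz => (hKD z hz).trans le_sup_right) hu le_sup_left)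

theorem TS_ce {t : G} (ht : t ∈ TS Z K S) {z : G} (hz : z ∈ OmZ Z K S) : Ce t (K z) := by
  have h1 : TS Z K S ≤ centralizer (K z : Set G) := by
    unfold TS
    rw [closure_le]
    intro u hu
    rw [SetLike.mem_coe, mem_centralizer_iff]
    intro k hk
    by_cases hne : z = u
    · subst hne
      exact (w.ce_self hz.1 k hk).symm
    · exact w.om_cm hz hu hne hS.two k hk u (w.mem u hu.1)
  intro k hk
  exact (mem_centralizer_iff.1 (h1 ht) k hk).symm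

omit [Finite G] hS in
theorem T0_le : T0 Z K S ≤ TS Z K S := by
  unfold T0 TS
  rw [closure_le]
  rintro _ ⟨z, hz, u, hu, rfl⟩
  exact mul_mem (Subgroup.subset_closure hz) (Subgroup.subset_closure hu)

theorem TS_comm {s t : G} (hs : s ∈ TS Z K S) (ht : t ∈ TS Z K S) : s * t = t * s := by
  have h1 : TS Z K S ≤ centralizer {t} := by
    conv_lhs => unfold TS
    rw [closure_le]
    intro u hu
    rw [SetLike.mem_coe, mem_centralizer_singleton_iff]
    exact (w.TS_ce hS ht hu u (w.mem u hu.1)).symm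
  exact mem_centralizer_singleton_iff.1 (h1 hs)

omit hS in
theorem TS_le_S (hS2 : IsPGroup 2 S) : TS Z K S ≤ S := by
  unfold TS
  rw [closure_le]
  intro u hu
  exact hu.2 (w.mem u hu.1)

theorem TS_sq {s : G} (hs : s ∈ TS Z K S) : s * s = 1 := by
  have hs' := hs
  unfold TS at hs'
  induction hs' using Subgroup.closure_induction with
  | mem x hx => exact w.sq x hx.1
  | one => rw [one_mul]
  | mul x y hx hy h1 h2 =>
    have h3 := w.TS_comm hS hx hy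
    calc x * y * (x * y) = x * (y * x) * y := by group
      _ = x * (x * y) * y := by rw [h3]
      _ = (x * x) * (y * y) := by group
      _ = 1 := by rw [h1 hx, h2 hy, one_mul]
  | inv x hx h1 =>
    calc x⁻¹ * x⁻¹ = (x * x)⁻¹ := by group
      _ = 1 := by rw [h1 hx, inv_one]

omit [Finite G] hS in
/-- elements permuting the members normalise `T₀` -/
theorem T0_nor {g : G} (hg : ∀ z ∈ OmZ Z K S, g * z * g⁻¹ ∈ OmZ Z K S) {t : G} (ht : t ∈ T0 Z K S) :
    g * t * g⁻¹ ∈ T0 Z K S := by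
  have h1 : T0 Z K S ≤ (T0 Z K S).comap (MulAut.conj g).toMonoidHom := by
    conv_lhs => unfold T0
    rw [closure_le]
    rintro _ ⟨z, hz, u, hu, rfl⟩
    show g * (z * u) * g⁻¹ ∈ T0 Z K S
    have : g * (z * u) * g⁻¹ = (g * z * g⁻¹) * (g * u * g⁻¹) := by group
    rw [this]
    exact Subgroup.subset_closure ⟨_, hg z hz, _, hg u hu, rfl⟩
  exact h1 ht

omit [Finite G] hS in
theorem mul_mem_T0 {z u : G} (hz : z ∈ OmZ Z K S) (hu : u ∈ OmZ Z K S) : z * u ∈ T0 Z K S :=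
  Subgroup.subset_closure ⟨z, hz, u, hu, rfl⟩

theorem T0_comm {s t : G} (hs : s ∈ T0 Z K S) (ht : t ∈ T0 Z K S) : s * t = t * s :=
  w.TS_comm hS (w.T0_le hs) (w.T0_le ht)

theorem T0_ce {t : G} (ht : t ∈ T0 Z K S) {z : G} (hz : z ∈ OmZ Z K S) : Ce t (K z) := w.TS_ce hS (w.T0_le ht) hz

/-- `S` normalises `T₀` -/
theorem S_nor {s : G} (hs : s ∈ S) {z : G} (hz : z ∈ OmZ Z K S) : s * z * s⁻¹ ∈ OmZ Z K S :=
  w.om_perm hS hS.two (fun z hz => hz.2) hs hz

end BW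

end Cfsg.Agent.Cit.Nil.AN
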