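import Cfsg.Agent.Cit.Nil.AN.Base

/-!
# Step (0), (1) of `AN(s)`: the classes of `C(s)`
-/

set_option autoImplicit false
set_option linter.unusedSectionVars false

namespace Cfsg.Agent.Cit.Nil.AN

open Subgroup Cfsg.Agent.Cit Cfsg.Agent.StdEven.Syl Cfsg.Agent.OddOrderLocal.NilParts

variable {G : Type*} [Group G]

/-- the members centralised by `s` -/
def Om (Z : Set G) (K : G → Subgroup G) (s : G) : Set G := {z | z ∈ Z ∧ Ce s (K z)}

/-- a step in the non-commuting graph of `Om s` -/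
def St (Z : Set G) (K : G → Subgroup G) (s : G) (a b : G) : Prop := b ∈ Om Z K s ∧ ¬ Cm (K a) (K b)

/-- the class of `z` in `Om s` -/
def Cl (Z : Set G) (K : G → Subgroup G) (s z : G) : Set G := {u | Relation.ReflTransGen (St Z K s) z u}

/-- the group generated by a set of members -/
def Gp (K : G → Subgroup G) (A : Set G) : Subgroup G := ⨆ u : A, K u

/-- `ONE` -/
def OneC (Z : Set G) (K : G → Subgroup G) (s z : G) : Prop :=
  ∀ u ∈ Cl Z K s z, ∀ v ∈ Cl Z K s z, Cm (K u) (K v) → ∀ x ∈ Cl Z K s z, Ce (u * v) (K x)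

variable {Z : Set G} {K : G → Subgroup G}

theorem cl_refl (s z : G) : z ∈ Cl Z K s z := Relation.ReflTransGen.refl

theorem cl_sub {s z u : G} (hz : z ∈ Om Z K s) (hu : u ∈ Cl Z K s z) : u ∈ Om Z K s := by
  rcases Relation.ReflTransGen.cases_tail hu with h | ⟨c, -, h⟩
  · rw [h]; exact hz
  · exact h.1

theorem cl_step {s z u v : G} (hu : u ∈ Cl Z K s z) (hv : v ∈ Om Z K s) (h : ¬ Cm (K u) (K v)) : v ∈ Cl Z K s z :=
  Relation.ReflTransGen.tail hu ⟨hv, h⟩

theorem cl_cm {s z u v : G} (hu : u ∈ Cl Z K s z) (hv : v ∈ Om Z K s) (h : v ∉ Cl Z K s z) : Cm (K u) (K v) := by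
  by_contra hc
  exact h (cl_step hu hv hc)

theorem cl_symm {s z u : G} (hz : z ∈ Om Z K s) (hu : u ∈ Cl Z K s z) : z ∈ Cl Z K s u := by
  have hu' : Relation.ReflTransGen (St Z K s) z u := hu
  show Relation.ReflTransGen (St Z K s) u z
  clear hu
  induction hu' with
  | refl => exact Relation.ReflTransGen.refl
  | tail h1 h2 ih =>
    exact Relation.ReflTransGen.trans (Relation.ReflTransGen.single ⟨cl_sub hz h1, fun h => h2.2 h.symm⟩) ih

theorem cl_trans {s z u v : G} (hu : u ∈ Cl Z K s z) (hv : v ∈ Cl Z K s u) : v ∈ Cl Z K s z :=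
  Relation.ReflTransGen.trans hu hv

theorem cl_eq {s z u : G} (hz : z ∈ Om Z K s) (hu : u ∈ Cl Z K s z) : Cl Z K s u = Cl Z K s z := by
  ext v
  exact ⟨fun h => cl_trans hu h, fun h => cl_trans (cl_symm hz hu) h⟩

theorem le_Gp {A : Set G} {u : G} (hu : u ∈ A) : K u ≤ Gp K A := le_iSup (fun u : A => K u) ⟨u, hu⟩

theorem Gp_le {A : Set G} {B : Subgroup G} (h : ∀ u ∈ A, K u ≤ B) : Gp K A ≤ B := iSup_le fun u => h u u.2

theorem Gp_ce {A : Set G} {x : G} (h : ∀ u ∈ A, Ce x (K u)) : Ce x (Gp K A) := by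
  intro k hk
  have h1 : Gp K A ≤ centralizer {x} := Gp_le fun u hu k hk => mem_centralizer_singleton_iff.2 (h u hu k hk).symm
  exact (mem_centralizer_singleton_iff.1 (h1 hk)).symm

namespace BW

variable (w : BW Z K)

include w

theorem om_conj' {s z c : G} (hc : c * s = s * c) (hz : z ∈ Om Z K s) : c * z * c⁻¹ ∈ Om Z K s := by
  refine ⟨w.conjZ z hz.1 c, ?_⟩
  rw [w.conjK z hz.1]
  have h1 := hz.2.cj c
  have : c * s * c⁻¹ = s := by rw [hc]; group
  rwa [this] at h1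

theorem cl_conj {s z u c : G} (hc : c * s = s * c) (hz : z ∈ Om Z K s) (hu : u ∈ Cl Z K s z) :
    c * u * c⁻¹ ∈ Cl Z K s (c * z * c⁻¹) := by
  have hu' : Relation.ReflTransGen (St Z K s) z u := hu
  clear hu
  induction hu' with
  | refl => exact cl_refl _ _
  | tail h1 h2 ih =>
    apply cl_step ih (w.om_conj' hc h2.1)
    intro h
    exact h2.2 ((w.cm_conj_iff (cl_sub hz h1).1 h2.1.1 c).1 h)

variable [Finite G]

theorem Gp_conj {A : Set G} (hA : A ⊆ Z) {c : G} (h : ∀ u ∈ A, c * u * c⁻¹ ∈ A) :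
    c ∈ normalizer (Gp K A : Set G) := by
  apply mem_normalizer_of_conj_le
  intro x hx
  have h1 : Gp K A ≤ (Gp K A).comap (MulAut.conj c).toMonoidHom := Gp_le fun u hu k hk => by
    show c * k * c⁻¹ ∈ Gp K A
    have h2 : c * k * c⁻¹ ∈ K (c * u * c⁻¹) := by
      rw [w.conjK u (hA hu)]
      exact conj_mem_cj hk
    exact le_Gp (h u hu) h2
  exact h1 hx

/-- `B = ⟨class⟩` is subnormal in `C(s)`: an element of `O₂(B)` lies in `O₂(C(s))` -/
theorem oP_up {s z : G} (hz : z ∈ Om Z K s) {x : G} (hx : x ∈ oP 2 (Gp K (Cl Z K s z))) :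
    x ∈ oP 2 (centralizer {s}) := by
  set B := Gp K (Cl Z K s z) with hB
  set X := Gp K (Om Z K s) with hX
  have hOZ : Om Z K s ⊆ Z := fun u hu => hu.1
  have hBX : B ≤ X := Gp_le fun u hu => le_Gp (cl_sub hz hu)
  have hXC : X ≤ centralizer {s} := Gp_le fun u hu k hk => mem_centralizer_singleton_iff.2 (hu.2 k hk).symm
  have h1 : X ≤ normalizer (B : Set G) := Gp_le fun u hu k hk => by
    by_cases hc : u ∈ Cl Z K s z
    · exact le_normalizer (le_Gp hc hk)
    · apply mem_normalizer_of_conj_le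
      intro b hb
      have h2 : Ce k B := Gp_ce fun v hv l hl => ((cl_cm hv hu hc) l hl k hk).symm
      have : k * b * k⁻¹ = b := by rw [h2 b hb]; group
      rw [this]; exact hb
  have h2 : centralizer {s} ≤ normalizer (X : Set G) := fun c hc =>
    w.Gp_conj hOZ (fun u hu => w.om_conj' (mem_centralizer_singleton_iff.1 hc) hu)
  have h3 : oP 2 B ≤ oP 2 X := le_oP ((oP_le 2 B).trans hBX) (isPGroup_oP 2 B) (h1.trans (normalizer_le_oP 2 B))
  have h4 : oP 2 X ≤ oP 2 (centralizer {s}) :=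
    le_oP ((oP_le 2 X).trans hXC) (isPGroup_oP 2 X) (h2.trans (normalizer_le_oP 2 X))
  exact h4 (h3 hx)

omit w in
/-- an element of `B ∩ O₂(C)`, `B ≤ C`, lies in `O₂(B)` -/
theorem oP_down {B C : Subgroup G} (h : B ≤ C) {x : G} (hx : x ∈ oP 2 C) (hxB : x ∈ B) : x ∈ oP 2 B := by
  have h1 : oP 2 C ⊓ B ≤ oP 2 B := by
    apply le_oP inf_le_right ((isPGroup_oP 2 C).to_le inf_le_left)
    exact le_normalizer_inf (h.trans (le_normalizer_oP 2 C)) le_normalizer
  exact h1 (mem_inf.2 ⟨hx, hxB⟩)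

variable {S : Subgroup G} (hS : IsSyl S ⊤)

include hS

/-- (0): the members of `C(s)` are conjugate into `OmZ S` -/
theorem om_into {s : G} (hs : ∀ z ∈ OmZ Z K S, Ce s (K z)) {z : G} (hz : z ∈ Om Z K s) :
    ∃ c, c * s = s * c ∧ c * z * c⁻¹ ∈ OmZ Z K S := by
  obtain ⟨D, -, hD2, hKD, hD⟩ := w.exists_D hS
  have hDs : D ≤ centralizer {s} := fun d hd => mem_centralizer_singleton_iff.2 (hD s hs d hd).symm
  obtain ⟨P, hP, hDP⟩ := exists_isSyl hD2 hDs
  have hKs : K z ≤ centralizer {s} := fun k hk => mem_centralizer_singleton_iff.2 (hz.2 k hk).symm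
  obtain ⟨c, hc, hc2⟩ := hP.exists_conj (w.two hz.1) hKs
  refine ⟨c, mem_centralizer_singleton_iff.1 hc, ?_⟩
  apply w.om_eq hS hP.two (fun u hu => (hKD u hu).trans hDP) (w.conjZ z hz.1 c)
  rw [w.conjK z hz.1]
  intro x hx
  rw [mem_cj] at hx
  have := hc2 _ hx
  have e : c * (c⁻¹ * x * c) * c⁻¹ = x := by group
  rwa [e] at this

theorem om_mem {s z : G} (hs : s ∈ TS Z K S) (hz : z ∈ OmZ Z K S) : z ∈ Om Z K s := ⟨hz.1, w.TS_ce hS hs hz⟩

end BW

namespace AW

variable (w : AW Z K) [Finite G] {S : Subgroup G} (hS : IsSyl S ⊤)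

include w hS

/-- (1a) -/
theorem all_mem {s z : G} (hs : s ∈ TS Z K S) (hz : z ∈ OmZ Z K S) (hn : z ∉ oP 2 (centralizer {s})) {u : G}
    (hu : u ∈ OmZ Z K S) : u ∈ Cl Z K s z := by
  by_contra hc
  apply hn
  have hzs := w.om_mem hS hs hz
  have hus := w.om_mem hS hs hu
  have h1 : Gp K (Cl Z K s z) ≤ centralizer {u} := Gp_le fun v hv k hk =>
    mem_centralizer_singleton_iff.2 (cl_cm hv hus hc k hk u (w.mem u hu.1))
  apply w.oP_up hzs
  have h2 : z ∈ oP 2 (centralizer {u}) := w.nil u hu.1 z hz.1 (cl_cm (cl_refl s z) hus hc).symm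
  exact BW.oP_down h1 h2 (le_Gp (cl_refl s z) (w.mem z hz.1))

end AW

/-- the frame obtained in step (1) -/
structure Fr (Z : Set G) (K : G → Subgroup G) (S : Subgroup G) (KK : Set G) : Prop where
  sub : OmZ Z K S ⊆ KK
  om : ∀ t ∈ T0 Z K S, t ≠ 1 → Om Z K t = KK
  one : ∀ u ∈ KK, ∀ v ∈ KK, Cm (K u) (K v) → ∀ x ∈ KK, Ce (u * v) (K x)

namespace AW

variable (w : AW Z K) [Finite G] {S : Subgroup G} (hS : IsSyl S ⊤)

include w hS

/-- Step (1). -/
theorem exists_fr (tp : ∀ s ∈ TS Z K S, s ≠ 1 → ∀ z ∈ OmZ Z K S, z ∈ oP 2 (centralizer {s}) ∨ OneC Z K s z)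
    {s z0 : G} (hs : s ∈ TS Z K S) (hs1 : s ≠ 1) (hz0 : z0 ∈ Om Z K s) (hn0 : z0 ∉ oP 2 (centralizer {s}))
    {a b : G} (ha : a ∈ OmZ Z K S) (hb : b ∈ OmZ Z K S) (hab : a ≠ b) : ∃ KK, Fr Z K S KK := by
  -- a member of `S` which is not nil
  obtain ⟨c, hc, hcz⟩ := w.om_into hS (fun z hz => w.TS_ce hS hs hz) hz0
  set z := c * z0 * c⁻¹ with hzdef
  have hn : z ∉ oP 2 (centralizer {s}) := by
    intro h
    apply hn0
    have h1 : c⁻¹ ∈ normalizer (oP 2 (centralizer {s}) : Set G) :=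
      le_normalizer_oP 2 _ (inv_mem (mem_centralizer_singleton_iff.2 hc))
    have h2 := conj_mem_of_mem_normalizer h1 h
    have e : c⁻¹ * z * c⁻¹⁻¹ = z0 := by rw [hzdef]; group
    rwa [e] at h2
  have hone := (tp s hs hs1 z hcz).resolve_left hn
  have hall : ∀ u ∈ OmZ Z K S, u ∈ Cl Z K s z := fun u hu => w.all_mem hS hs hcz hn hu
  have hzs := w.om_mem hS hs hcz
  -- `T₀` centralises the class
  have hT0 : ∀ t ∈ T0 Z K S, ∀ u ∈ Cl Z K s z, Ce t (K u) := by
    intro t ht u hu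
    have h1 : T0 Z K S ≤ centralizer (K u : Set G) := by
      unfold T0
      rw [closure_le]
      rintro _ ⟨x, hx, y, hy, rfl⟩
      rw [SetLike.mem_coe, mem_centralizer_iff]
      intro k hk
      by_cases hxy : x = y
      · subst hxy
        rw [w.sq x hx.1, one_mul, mul_one]
      · exact (hone x (hall x hx) y (hall y hy) (w.om_cm hx hy hxy hS.two) u hu k hk).symm
    intro k hk
    exact (mem_centralizer_iff.1 (h1 ht) k hk).symm
  -- no `t ∈ T₀#` is nil
  have hnt : ∀ t ∈ T0 Z K S, t ≠ 1 → z ∉ oP 2 (centralizer {t}) := by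
    intro t ht _ h
    apply hn
    apply w.oP_up hzs
    have h1 : Gp K (Cl Z K s z) ≤ centralizer {t} := Gp_le fun v hv k hk =>
      mem_centralizer_singleton_iff.2 (hT0 t ht v hv k hk).symm
    exact BW.oP_down h1 h (le_Gp (cl_refl s z) (w.mem z hcz.1))
  have hall' : ∀ t ∈ T0 Z K S, t ≠ 1 → ∀ u ∈ OmZ Z K S, u ∈ Cl Z K t z := fun t ht ht1 u hu =>
    w.all_mem hS (w.T0_le ht) hcz (hnt t ht ht1) hu
  have hone' : ∀ t ∈ T0 Z K S, t ≠ 1 → OneC Z K t z := fun t ht ht1 =>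
    (tp t (w.T0_le ht) ht1 z hcz).resolve_left (hnt t ht ht1)
  have hT0' : ∀ t ∈ T0 Z K S, t ≠ 1 → ∀ t' ∈ T0 Z K S, ∀ u ∈ Cl Z K t z, Ce t' (K u) := by
    intro t ht ht1 t' ht' u hu
    have h1 : T0 Z K S ≤ centralizer (K u : Set G) := by
      unfold T0
      rw [closure_le]
      rintro _ ⟨x, hx, y, hy, rfl⟩
      rw [SetLike.mem_coe, mem_centralizer_iff]
      intro k hk
      by_cases hxy : x = y
      · subst hxy
        rw [w.sq x hx.1, one_mul, mul_one]
      · exact (hone' t ht ht1 x (hall' t ht ht1 x hx) y (hall' t ht ht1 y hy) (w.om_cm hx hy hxy hS.two) u hu k hk).symm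
    intro k hk
    exact (mem_centralizer_iff.1 (h1 ht') k hk).symm
  -- the class does not depend on `t`
  have hsub : ∀ t ∈ T0 Z K S, t ≠ 1 → ∀ t' ∈ T0 Z K S, Cl Z K t z ⊆ Cl Z K t' z := by
    intro t ht ht1 t' ht' u hu
    have hu' : Relation.ReflTransGen (St Z K t) z u := hu
    clear hu
    induction hu' with
    | refl => exact cl_refl _ _
    | @tail b c h1 h2 ih =>
      refine cl_step ih ⟨h2.1.1, ?_⟩ h2.2
      exact hT0' t ht ht1 t' ht' c (Relation.ReflTransGen.tail h1 h2)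
  -- every member of `C(t)` lies in the class
  have hom : ∀ t ∈ T0 Z K S, t ≠ 1 → Om Z K t = Cl Z K t z := by
    intro t ht ht1
    have hzt := w.om_mem hS (w.T0_le ht) hcz
    apply Set.Subset.antisymm
    · intro u hu
      obtain ⟨c, hc, hcu⟩ := w.om_into hS (fun z hz => w.T0_ce hS ht hz) hu
      have hc' : c⁻¹ * t = t * c⁻¹ := by
        calc c⁻¹ * t = c⁻¹ * (t * c) * c⁻¹ := by group
          _ = c⁻¹ * (c * t) * c⁻¹ := by rw [hc]
          _ = t * c⁻¹ := by group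
      have h1 := w.cl_conj hc' hzt (hall' t ht ht1 _ hcu)
      have e : c⁻¹ * (c * u * c⁻¹) * c⁻¹⁻¹ = u := by group
      rw [e] at h1
      -- `h1 : u ∈ Cl t (c⁻¹ z c)`
      by_cases hcl : c⁻¹ * z * c⁻¹⁻¹ ∈ Cl Z K t z
      · exact cl_trans hcl h1
      · exfalso
        apply hcl
        apply hall' t ht ht1
        have hzc : c⁻¹ * z * c⁻¹⁻¹ ∈ Om Z K t := w.om_conj' hc' hzt
        apply w.om_of_cm hS hzc.1
        intro v hv _
        exact cl_cm (hall' t ht ht1 v hv) hzc hcl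
    · exact fun u hu => cl_sub hzt hu
  -- an element of `T₀#`
  have habT : a * b ∈ T0 Z K S := w.mul_mem_T0 ha hb
  have hab1 : a * b ≠ 1 := by
    intro h
    apply hab
    rw [← w.inv hb.1]
    exact eq_inv_of_mul_eq_one_left h
  refine ⟨Cl Z K (a * b) z, fun u hu => hall' _ habT hab1 u hu, fun t ht ht1 => ?_, ?_⟩
  · rw [hom t ht ht1]
    exact Set.Subset.antisymm (hsub t ht ht1 _ habT) (hsub _ habT hab1 t ht)
  · exact hone' _ habT hab1

end AW

end Cfsg.Agent.Cit.Nil.AN
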