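import Cfsg.Agent.Cit.Nil.AN.Base
import Cfsg.Agent.Cit.Nil.ROne.Base
import Cfsg.Agent.Cit.Nil.ROne.Triple

/-!
# The world `W` of `r = 1` is an `AW`

`W.quat_cen` : an involution commuting with `a ∈ K x` of order four acts on `K x` as `1` or as `a`;
`W.swap_cen` : the swap lemma `(3.1)`; `W.triple_cen` : the T-triple lemma; `W.toAW`.
-/

set_option autoImplicit false
set_option linter.style.haveILetI false

namespace Cfsg.Agent.Cit.Nil.ROne

open Subgroup Cfsg Cit Cfsg.Agent.OddOrderLocal.NilParts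

variable {G : Type*} [Group G] {Z : Set G} {K : G → Subgroup G} {z u v x t a g : G}

namespace W

variable (h : W Z K)

include h

/-- the centre of `K z` -/
theorem eq_of_cen (hz : z ∈ Z) (hv : v ∈ K z) (hc : Cen K v z) : v = 1 ∨ v = z := by
  have h1 : ∀ p : QEight.Q, (∀ q : QEight.Q, p * q = q * p) → p = 1 ∨ p = QuaternionGroup.a 2 := by decide
  have h2 : ∀ q : QEight.Q, h.e hz ⟨v, hv⟩ * q = q * h.e hz ⟨v, hv⟩ := by
    intro q
    obtain ⟨k, hk, rfl⟩ := h.exists_e hz q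
    rw [← h.e_mul hz hv hk, ← h.e_mul hz hk hv]
    exact congrArg (h.e hz) (Subtype.ext (hc k hk))
  rcases h1 _ h2 with h3 | h3
  · left
    rw [← map_one (h.e hz)] at h3
    exact congrArg Subtype.val ((h.e hz).injective h3)
  · right
    rw [← h.e_z hz] at h3
    exact congrArg Subtype.val ((h.e hz).injective h3)

/-- two commuting elements of order four of `K z` -/
theorem mul_of_comm (hz : z ∈ Z) {a b : G} (ha : a ∈ K z) (hb : b ∈ K z) (haa : a * a = z) (hbb : b * b = z)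
    (hab : a * b = b * a) : b * a = 1 ∨ b * a = z :=
  h.uniq hz (mul_mem hb ha) (by
    calc b * a * (b * a) = b * (a * b) * a := by group
      _ = (b * b) * (a * a) := by rw [hab]; group
      _ = 1 := by rw [haa, hbb, h.sq z hz])

/-- an involution commuting with `a ∈ K x`, `a² = x`, acts on `K x` as `1` or as `a` -/
theorem quat_cen (hx : x ∈ Z) (ha : a ∈ K x) (haa : a * a = x) (htt : t * t = 1) (hta : t * a = a * t) :
    Cen K t x ∨ Cen K (t * a) x := by
  have htx : t * x = x * t := by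
    rw [← haa, ← mul_assoc, hta, mul_assoc, hta, mul_assoc]
  have hfix : t * a * t⁻¹ = a := by rw [hta, mul_inv_cancel_right]
  have hne : a⁻¹ ≠ a := by
    intro h1
    apply h.ne x hx
    rw [← haa]
    nth_rewrite 1 [← h1]
    exact inv_mul_cancel a
  rcases h.inv_cases hx htx (by rw [htt]; exact Cen.one) with h1 | ⟨y, h1⟩ | ⟨b, h1⟩
  · exact Or.inl h1
  · right
    have h2 : y * a * y⁻¹ = a := by rw [← h1.act a ha, hfix]
    have h3 : a * y = y * a := (mul_inv_eq_iff_eq_mul.1 h2).symm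
    have h4 := h.mul_of_comm hx ha h1.mem haa h1.sq h3
    intro k hk
    rw [← mul_inv_eq_iff_eq_mul]
    have h5 : t * a * k * (t * a)⁻¹ = (y * a) * k * (y * a)⁻¹ := by
      calc t * a * k * (t * a)⁻¹ = t * (a * k * a⁻¹) * t⁻¹ := by group
        _ = y * (a * k * a⁻¹) * y⁻¹ := h1.act _ (mul_mem (mul_mem ha hk) (inv_mem ha))
        _ = (y * a) * k * (y * a)⁻¹ := by group
    rw [h5]
    rcases h4 with h4 | h4
    · rw [h4]; group
    · rw [h4, ← h.cent hx hk, mul_inv_cancel_right]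
  · exfalso
    by_cases h2 : a = b
    · subst h2
      exact hne (by rw [← h1.inv, hfix])
    · by_cases h3 : a = b⁻¹
      · have h4 : t * a * t⁻¹ = a⁻¹ := by
          rw [h3, inv_inv]
          calc t * b⁻¹ * t⁻¹ = (t * b * t⁻¹)⁻¹ := by group
            _ = b := by rw [h1.inv, inv_inv]
        exact hne (by rw [← h4, hfix])
      · exact (h1.ne a ha haa h2 h3).1 hfix

/-- **(3.1)** the swap lemma: `x` moves `u` to `v`, `(u, v)` a C-pair, then `u v ∈ C(K x)` -/
theorem swap_cen (hx : x ∈ Z) (hu : u ∈ Z) (_hv : v ∈ Z) (hc : ∀ a ∈ K u, ∀ b ∈ K v, a * b = b * a)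
    (hxu : x * u * x⁻¹ = v) : Cen K (u * v) x := by
  have hxx := h.sq x hx
  have hxi := h.inv hx
  have hK : ∀ k ∈ K u, x * k * x⁻¹ ∈ K v := by
    intro k hk
    rw [← hxu, h.conjK u hu]
    exact conj_mem_cj hk
  have hback : ∀ k : G, x * (x * k * x⁻¹) * x⁻¹ = k := by
    intro k
    calc x * (x * k * x⁻¹) * x⁻¹ = (x * x) * k * (x * x)⁻¹ := by group
      _ = k := by rw [hxx]; group
  -- `d k = k kˣ`
  obtain ⟨d, hd⟩ : ∃ d : G → G, ∀ k, d k = k * (x * k * x⁻¹) := ⟨fun k => k * (x * k * x⁻¹), fun _ => rfl⟩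
  have hdx : ∀ k ∈ K u, d k * x = x * d k := by
    intro k hk
    have h1 : x * d k * x⁻¹ = d k := by
      rw [hd]
      calc x * (k * (x * k * x⁻¹)) * x⁻¹ = (x * k * x⁻¹) * (x * (x * k * x⁻¹) * x⁻¹) := by group
        _ = (x * k * x⁻¹) * k := by rw [hback]
        _ = k * (x * k * x⁻¹) := (hc k hk _ (hK k hk)).symm
    exact (mul_inv_eq_iff_eq_mul.1 h1).symm
  have hdm : ∀ k ∈ K u, ∀ l ∈ K u, d k * d l = d (k * l) := by
    intro k _ l hl
    rename_i hk
    rw [hd, hd, hd]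
    have h1 := hc l hl _ (hK k hk)
    calc k * (x * k * x⁻¹) * (l * (x * l * x⁻¹)) = k * ((x * k * x⁻¹) * l) * (x * l * x⁻¹) := by group
      _ = k * (l * (x * k * x⁻¹)) * (x * l * x⁻¹) := by rw [h1]
      _ = k * l * (x * (k * l) * x⁻¹) := by group
  have hdu : d u = u * v := by rw [hd, hxu]
  obtain ⟨i, hi, j, hj, hii, hjj, hji, -⟩ := h.exists_ij hu
  have h1 := h.quat_act hx (hdx i hi) (hdx j hj) (w := u * v) (by rw [hdm i hi i hi, hii, hdu])
    (by rw [hdm j hj j hj, hjj, hdu]) (by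
      rw [hdm j hj i hi, hji, ← hdm u (h.mem u hu) (i * j) (mul_mem hi hj), hdu, hdm i hi j hj])
  exact h1

section fin

variable [Finite G]

/-- the T-triple lemma -/
theorem triple_cen (hx : x ∈ Z) (hu : u ∈ Z) (hv : v ∈ Z) (huv : CP K u v) (hxu : x * u = u * x) (hxv : x * v = v * x)
    (hnu : ¬ CP K x u) (hnv : ¬ CP K x v) (hxu' : x ≠ u) (hxv' : x ≠ v) : Cen K (u * v) x := by
  have hcl : ∀ z ∈ Z, K z ∈ K '' Z := fun z hz => ⟨z, hz, rfl⟩
  have h1 : ∀ A ∈ K '' Z, ∀ B ∈ K '' Z, zz A = zz B → A = B := by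
    rintro _ ⟨a, ha, rfl⟩ _ ⟨b, hb, rfl⟩ hab
    rw [h.zz_K ha, h.zz_K hb] at hab
    rw [hab]
  have h8 : ∀ A ∈ K '' Z, Nat.card A = 8 := by
    rintro _ ⟨a, ha, rfl⟩
    exact h.card8 ha
  have h2 := Cit.ROne.triple_aux h.hyp h1 h8 (hcl x hx) (hcl u hu) (hcl v hv) (fun he => huv.1 (h.K_inj hu hv he))
    (by rw [h.zz_K hv]; exact fun k hk => (huv.2 k hk v (h.mem v hv)).symm)
    (by rw [h.zz_K hx, h.zz_K hu]; exact hxu) (by rw [h.zz_K hx, h.zz_K hv]; exact hxv)
    (by rw [h.zz_K hu]; exact fun hh => hnu (h.csymm hx hu hxu' hh))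
    (by rw [h.zz_K hv]; exact fun hh => hnv (h.csymm hx hv hxv' hh))
  rwa [h.zz_K hu, h.zz_K hv] at h2

/-- the world `W` is a `BW` (several classes, no nilpotency) -/
theorem toBW : AN.BW Z K := by
  have hns : ∀ z ∈ Z, ¬ AN.Cm (K z) (K z) := by
    intro z hz hc
    obtain ⟨i, hi, j, hj, hii, hjj, hji, -⟩ := h.exists_ij hz
    have h1 := hc j hj i hi
    rw [h1] at hji
    exact h.ne z hz (mul_eq_right.1 hji.symm)
  refine
    { sq := h.sq
      ne := h.ne
      mem := h.mem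
      card := fun z hz => h.card8 hz
      uniq := fun z hz v hv hvv => h.uniq hz hv hvv
      nonab := fun z hz v hv hc => h.eq_of_cen hz hv hc
      conjZ := h.conjZ
      conjK := h.conjK
      csymm := fun z hz u hu hc hne => (h.csymm hz hu hne hc).2
      com := fun z hz u hu hne P hP h1 h2 => (h.com hz hu hP h1 h2 hne).2
      triple := fun x hx u hu v hv huv hxu hxv hnu hnv => ?_
      quat := fun x hx a ha haa t htt hta => h.quat_cen hx ha haa htt hta
      swap := fun x hx u hu v hv hc hxu => h.swap_cen hx hu hv hc hxu }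
  left
  have huv' : u ≠ v := by
    rintro rfl
    exact hns u hu huv
  by_cases hxu' : x = u
  · subst hxu'
    exact absurd huv hnv
  · by_cases hxv' : x = v
    · subst hxv'
      exact absurd huv.symm hnu
    · exact h.triple_cen hx hu hv ⟨huv', huv⟩ hxu hxv (fun hh => hnu hh.2) (fun hh => hnv hh.2) hxu' hxv'

/-- the nil world `W` is an `AW` -/
theorem toAW (hcls : OneCls Z) (hnil : NilP Z K) : AN.AW Z K := by
  refine { toBW := h.toBW, cls := hcls, nil := fun z hz u hu hc => ?_ }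
  have hne : z ≠ u := by
    rintro rfl
    exact h.toBW.not_cm_self hz hc
  obtain ⟨N, hN1, hN2, hN3, hN4⟩ := hnil z hz u hu ⟨hne, hc⟩
  exact le_oP hN1 hN3 hN2 hN4

end fin

end W

end Cfsg.Agent.Cit.Nil.ROne
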