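import Cfsg.Agent.Cit.Nil.AN.Four
import Cfsg.Agent.Cit.Nil.AN.Inst
import Cfsg.Agent.Cit.Nil.ROne.SwapN

/-!
# `AN(s)` for all `s ∈ T_S`, `s ≠ 1`, `m ≥ 3`

`ant` : `W`, one class, nil C-pairs, `m ≥ 3`, `TPr` (the classes of `C(s)` are nil or `ONE`), no strongly closed
commutative subgroup `A ≤ ⟨Z⟩`: `ANT Z K`.
-/

set_option autoImplicit false
set_option linter.unusedSectionVars false

namespace Cfsg.Agent.Cit.Nil.AN

open Subgroup Cfsg Cfsg.Agent.Cit Cfsg.Agent.StdEven.Syl Cfsg.Agent.OddOrderLocal.NilParts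

variable {G : Type*} [Group G] {Z : Set G} {K : G → Subgroup G}

theorem three_of_ncard [Finite G] {A : Set G} (h : 3 ≤ A.ncard) :
    ∃ z₁ ∈ A, ∃ z₂ ∈ A, ∃ z₃ ∈ A, z₁ ≠ z₂ ∧ z₁ ≠ z₃ ∧ z₂ ≠ z₃ := by
  obtain ⟨a, ha, b, hb, c, hc, hab, hac, hbc⟩ := (Set.two_lt_ncard (Set.toFinite A)).1 h
  exact ⟨a, ha, b, hb, c, hc, hab, hac, hbc⟩

/-- **`AN(s)`, `s ∈ T_S`, `s ≠ 1`, `m ≥ 3`** -/
theorem ant [Finite G] (h : ROne.W Z K) (hcls : ROne.OneCls Z) (hnil : ROne.NilP Z K)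
    (three : ∀ S : Sylow 2 G, 3 ≤ (ROne.CS Z K (S : Subgroup G)).ncard)
    (tp : ∀ S : Sylow 2 G, TPr Z K (S : Subgroup G)) (ncl : ∀ S : Sylow 2 G, NoCl Z (S : Subgroup G)) :
    ROne.ANT Z K := by
  intro S s hs hs1 z hz hsz
  have h1 : z ∈ oP 2 (centralizer {s}) :=
    an (h.toAW hcls hnil) h (isSyl_top_of_sylow S) (three_of_ncard (three S)) (tp S) (ncl S) hs hs1 hz hsz
  exact ⟨oP 2 (centralizer {s}), oP_le 2 _, le_normalizer_oP 2 _, isPGroup_oP 2 _, h1⟩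

end Cfsg.Agent.Cit.Nil.AN
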