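import Cfsg.Agent.Cit.Nil.AN.Two

/-!
# Step (3) of `AN(s)`: `Z ∩ M₀ = KK`, and `M₀` controls the fusion of `KK`
-/

set_option autoImplicit false
set_option linter.unusedSectionVars false

namespace Cfsg.Agent.Cit.Nil.AN

open Subgroup Cfsg.Agent.Cit Cfsg.Agent.StdEven.Syl Cfsg.Agent.OddOrderLocal.NilParts

variable {G : Type*} [Group G] {Z : Set G} {K : G → Subgroup G} {S : Subgroup G} {KK : Set G}

namespace Fs

variable [Finite G] (F : Fs Z K S KK)

include F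

theorem isSyl_M0 : IsSyl S (M0 Z K S) := F.hS.mono F.S_le le_top

/-- an element of `Z ∩ S` lies in `KK` -/
theorem mem_kk_of_S {x : G} (hx : x ∈ Z) (hxS : x ∈ S) : x ∈ KK := by
  by_contra hno
  have hce : ∀ t ∈ T0 Z K S, t ≠ 1 → ¬ Ce t (K x) := fun t ht ht1 h => hno (F.mem_kk hx ht ht1 h)
  -- `x` fixes all `z`
  have hfix : ∀ z ∈ OmZ Z K S, x * z = z * x := by
    intro z hz
    by_contra h
    have h1 : x * z * x⁻¹ ∈ OmZ Z K S := F.w.S_nor F.hS hxS hz
    have h2 : z ≠ x * z * x⁻¹ := by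
      intro h3
      apply h
      calc x * z = x * z * x⁻¹ * x := by group
        _ = z * x := by rw [← h3]
    have h3 := F.w.swap x hx z hz.1 _ h1.1 (F.w.om_cm hz h1 h2 F.hS.two) rfl
    exact hce _ (F.w.mul_mem_T0 hz h1) (F.mul_ne h1 h2) h3
  -- `x` is not a C-partner of any `z`
  have hC : ∀ z ∈ OmZ Z K S, ¬ Cm (K x) (K z) := by
    intro z hz hc
    have hxT : x ∉ T0 Z K S := fun h => hce x h (F.w.ne x hx) (F.w.ce_self hx)
    have hKM : K x ≤ M0 Z K S := fun k hk => F.cent_om hz (hc k hk z (F.w.mem z hz.1))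
    have hxt : ∀ t ∈ T0 Z K S, t * x = x * t := by
      intro t ht
      have h1 : TS Z K S ≤ centralizer {x} := by
        unfold TS
        rw [closure_le]
        intro z hz
        exact mem_centralizer_singleton_iff.2 (hfix z hz).symm
      exact mem_centralizer_singleton_iff.1 (h1 (F.w.T0_le ht))
    obtain ⟨t, ht, ht1⟩ := F.exists_t
    apply hce t ht ht1
    intro k hk
    have h5 : k * t * k⁻¹ ∈ T0 Z K S := conj_mem_of_mem_normalizer (hKM hk) ht
    have h6 : k * t * k⁻¹ * t⁻¹ ∈ T0 Z K S := mul_mem h5 (inv_mem ht)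
    have h7 : k * t * k⁻¹ * t⁻¹ ∈ K x := by
      have h8 : t * k⁻¹ * t⁻¹ ∈ K x := by
        have h9 := F.w.K_nor hx (hxt t ht)
        rw [← h9]
        exact conj_mem_cj (inv_mem hk)
      have : k * t * k⁻¹ * t⁻¹ = k * (t * k⁻¹ * t⁻¹) := by group
      rw [this]
      exact mul_mem hk h8
    rcases F.w.uniq x hx _ h7 (F.w.TS_sq F.hS (F.w.T0_le h6)) with h8 | h8
    · have h9 : k * t * k⁻¹ = t := by
        rw [mul_inv_eq_one] at h8; exact h8
      calc t * k = k * t * k⁻¹ * k := by rw [h9]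
        _ = k * t := by group
    · rw [h8] at h6; exact absurd h6 hxT
  obtain ⟨a, ha, b, hb, -, -, hab, -, -⟩ := F.three
  exact hno (F.triple hx ha hb hab (hfix a ha) (hfix b hb) (hC a ha) (hC b hb))

/-- Step (3): `Z ∩ M₀ = KK` -/
theorem mem_kk_of_M0 {x : G} (hx : x ∈ Z) (hxM : x ∈ M0 Z K S) : x ∈ KK := by
  have h1 : zpowers x ≤ M0 Z K S := by rwa [zpowers_le]
  obtain ⟨n, hn, hn2⟩ := F.isSyl_M0.exists_conj (isPGroup_zpowers_inv (F.w.sq x hx)) h1
  have h2 := F.mem_kk_of_S (F.w.conjZ x hx n) (hn2 x (mem_zpowers x))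
  have h3 := F.kk_conj (inv_mem hn) h2
  have e : n⁻¹ * (n * x * n⁻¹) * n⁻¹⁻¹ = x := by group
  rwa [e] at h3

/-- Step (3'): an element conjugating an element of `KK` into `M₀` lies in `M₀` -/
theorem mem_M0 {z g : G} (hz : z ∈ KK) (h : g * z * g⁻¹ ∈ M0 Z K S) : g ∈ M0 Z K S := by
  have h1 := F.mem_kk_of_M0 (F.w.conjZ z (F.kk_Z hz) g) h
  -- move both into `OmZ S`
  obtain ⟨c, hc, hcz⟩ := F.exists_c hz
  obtain ⟨d, hd, hdz⟩ := F.exists_c h1
  -- `g' = d g c⁻¹` maps `c z c⁻¹` to `d (g z g⁻¹) d⁻¹`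
  set z1 := c * z * c⁻¹ with hz1
  set z2 := d * (g * z * g⁻¹) * d⁻¹ with hz2
  set g' := d * g * c⁻¹ with hg'
  have h2 : g' * z1 * g'⁻¹ = z2 := by rw [hg', hz1, hz2]; group
  suffices hs : g' ∈ M0 Z K S by
    have : g = d⁻¹ * g' * c := by rw [hg']; group
    rw [this]
    exact mul_mem (mul_mem (inv_mem hd) hs) hc
  -- Sylow's theorem in `C(z2)`
  set D' : Subgroup G := ⨆ u : OmZ Z K S, K u with hD'
  obtain ⟨D, -, hD2, hKD, -⟩ := F.w.exists_D F.hS
  have hD'D : D' ≤ D := iSup_le fun u => hKD u u.2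
  have hD'2 : IsPGroup 2 D' := hD2.to_le hD'D
  have hD'C : ∀ z ∈ OmZ Z K S, D' ≤ centralizer {z} := fun z hz => iSup_le fun u k hk => by
    rw [mem_centralizer_singleton_iff]
    by_cases h : (u : G) = z
    · have hk' : k ∈ K z := by rw [← h]; exact hk
      exact (F.w.ce_self hz.1 k hk').symm
    · exact F.w.om_cm u.2 hz h F.hS.two k hk z (F.w.mem z hz.1)
  obtain ⟨P, hP, hDP⟩ := exists_isSyl hD'2 (hD'C z2 hdz)
  have h3 : cj g' D' ≤ centralizer {z2} := by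
    have h4 := cj_mono g' (hD'C z1 hcz)
    rwa [cj_centralizer, h2] at h4
  obtain ⟨b, hb, hb2⟩ := hP.exists_conj (isPGroup_cj hD'2) h3
  have hbM : b ∈ M0 Z K S := F.cent_om hdz (mem_centralizer_singleton_iff.1 hb)
  have hbg : b * g' ∈ M0 Z K S := by
    apply F.mem_M0_of_perm
    intro z hz
    apply F.w.om_eq F.hS hP.two (fun u hu => (le_iSup (fun u : OmZ Z K S => K u) ⟨u, hu⟩).trans hDP)
      (F.w.conjZ z hz.1 _)
    rw [F.w.conjK z hz.1]
    intro x hx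
    rw [mem_cj] at hx
    have h3 : (b * g')⁻¹ * x * (b * g') ∈ D' := (le_iSup (fun u : OmZ Z K S => K u) ⟨z, hz⟩) hx
    have h4 := hb2 _ (conj_mem_cj (g := g') h3)
    have e : b * (g' * ((b * g')⁻¹ * x * (b * g')) * g'⁻¹) * b⁻¹ = x := by group
    rwa [e] at h4
  have : g' = b⁻¹ * (b * g') := by group
  rw [this]
  exact mul_mem (inv_mem hbM) hbg

end Fs

end Cfsg.Agent.Cit.Nil.AN
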