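import Cfsg.Agent.Cit.Nil.AN.Cls

/-!
# Step (2) of `AN(s)`: `C(z) ≤ M₀ = N(T₀)`
-/

set_option autoImplicit false
set_option linter.unusedSectionVars false

namespace Cfsg.Agent.Cit.Nil.AN

open Subgroup Cfsg.Agent.Cit Cfsg.Agent.StdEven.Syl Cfsg.Agent.OddOrderLocal.NilParts

variable {G : Type*} [Group G]

/-- the situation of the steps (2) - (4) -/
structure Fs (Z : Set G) (K : G → Subgroup G) (S : Subgroup G) (KK : Set G) : Prop where
  w : AW Z K
  hS : IsSyl S ⊤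
  fr : Fr Z K S KK
  three : ∃ z₁ ∈ OmZ Z K S, ∃ z₂ ∈ OmZ Z K S, ∃ z₃ ∈ OmZ Z K S, z₁ ≠ z₂ ∧ z₁ ≠ z₃ ∧ z₂ ≠ z₃

/-- `M₀` -/
def M0 (Z : Set G) (K : G → Subgroup G) (S : Subgroup G) : Subgroup G := normalizer (T0 Z K S : Set G)

variable {Z : Set G} {K : G → Subgroup G} {S : Subgroup G} {KK : Set G}

theorem BW.omZ_cj (w : BW Z K) {g z : G} : z ∈ OmZ Z K (cj g S) ↔ g⁻¹ * z * g ∈ OmZ Z K S := by
  constructor
  · rintro ⟨h1, h2⟩
    have h3 := w.conjZ z h1 g⁻¹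
    have h4 := w.conjK z h1 g⁻¹
    rw [inv_inv] at h3 h4
    refine ⟨h3, ?_⟩
    rw [h4]
    have := cj_mono g⁻¹ h2
    rwa [cj_inv_cj] at this
  · rintro ⟨h1, h2⟩
    have h3 := w.conjZ _ h1 g
    have h4 := w.conjK _ h1 g
    have e : g * (g⁻¹ * z * g) * g⁻¹ = z := by group
    rw [e] at h3 h4
    exact ⟨h3, by rw [h4]; exact cj_mono g h2⟩

theorem BW.T0_cj (w : BW Z K) (g : G) : T0 Z K (cj g S) = cj g (T0 Z K S) := by
  have key : ∀ (S : Subgroup G) (g : G), T0 Z K (cj g S) ≤ cj g (T0 Z K S) := by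
    intro S g
    conv_lhs => unfold T0
    rw [closure_le]
    rintro _ ⟨z, hz, u, hu, rfl⟩
    rw [SetLike.mem_coe, mem_cj]
    have : g⁻¹ * (z * u) * g = (g⁻¹ * z * g) * (g⁻¹ * u * g) := by group
    rw [this]
    exact w.mul_mem_T0 (w.omZ_cj.1 hz) (w.omZ_cj.1 hu)
  apply le_antisymm (key S g)
  have h1 := key (cj g S) g⁻¹
  rw [cj_inv_cj] at h1
  have h2 := cj_mono g h1
  rwa [cj_cj_inv] at h2

theorem isSyl_cj [Finite G] (hS : IsSyl S ⊤) (g : G) : IsSyl (cj g S) ⊤ :=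
  hS.conj (g := g) (by
    apply mem_normalizer_of_conj_le
    intro x _
    exact mem_top _)

theorem isPGroup_zpowers_inv {x : G} (hx : x * x = 1) : IsPGroup 2 (zpowers x) := by
  intro ⟨y, hy⟩
  obtain ⟨n, rfl⟩ := mem_zpowers_iff.1 hy
  refine ⟨1, Subtype.ext ?_⟩
  show (x ^ n) ^ (2 ^ 1) = 1
  rw [pow_one, pow_two, ← (Commute.refl x).mul_zpow, hx, one_zpow]

/-- `x ∈ O₂(C(x))` for an involution `x` -/
theorem self_mem_oP [Finite G] {x : G} (hx : x * x = 1) : x ∈ oP 2 (centralizer {x}) := by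
  have h1 : zpowers x ≤ oP 2 (centralizer {x}) := by
    apply le_oP
    · rw [zpowers_le]
      exact mem_centralizer_singleton_iff.2 rfl
    · exact isPGroup_zpowers_inv hx
    · intro c hc
      apply mem_normalizer_of_conj_le
      intro y hy
      have h2 : c ∈ centralizer (zpowers x : Set G) := by
        rw [mem_centralizer_iff]
        intro y hy
        obtain ⟨n, rfl⟩ := mem_zpowers_iff.1 hy
        have h3 : Commute x c := (mem_centralizer_singleton_iff.1 hc).symm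
        exact (h3.zpow_left n).eq
      have h3 := mem_centralizer_iff.1 h2 y hy
      rw [← h3, mul_inv_cancel_right]
      exact hy
  exact h1 (mem_zpowers x)

namespace Fs

variable [Finite G] (F : Fs Z K S KK)

include F

theorem conj (g : G) : Fs Z K (cj g S) ((fun z => g * z * g⁻¹) '' KK) := by
  have e : ∀ x : G, g⁻¹ * (g * x * g⁻¹) * g = x := fun x => by group
  have e' : ∀ x : G, g * (g⁻¹ * x * g) * g⁻¹ = x := fun x => by group
  have hsub : ∀ u ∈ KK, u ∈ Z := by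
    obtain ⟨a, ha, b, hb, -, -, hab, -, -⟩ := F.three
    intro u hu
    have h1 : a * b ≠ 1 := fun h => hab (by rw [← F.w.inv hb.1]; exact eq_inv_of_mul_eq_one_left h)
    rw [← F.fr.om _ (F.w.mul_mem_T0 ha hb) h1] at hu
    exact hu.1
  refine ⟨F.w, isSyl_cj F.hS g, ⟨?_, ?_, ?_⟩, ?_⟩
  · intro z hz
    exact ⟨_, F.fr.sub (F.w.omZ_cj.1 hz), e' z⟩
  · intro t ht ht1
    rw [F.w.T0_cj, mem_cj] at ht
    have ht1' : g⁻¹ * t * g ≠ 1 := by
      intro h
      apply ht1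
      rw [← e' t, h]
      group
    have h1 := F.fr.om _ ht ht1'
    ext z
    constructor
    · intro hz
      refine ⟨g⁻¹ * z * g, ?_, e' z⟩
      rw [← h1]
      have h2 := F.w.conjZ z hz.1 g⁻¹
      have h3 := F.w.conjK z hz.1 g⁻¹
      rw [inv_inv] at h2 h3
      refine ⟨h2, ?_⟩
      rw [h3]
      have h4 := hz.2.cj g⁻¹
      rwa [inv_inv] at h4
    · rintro ⟨z, hz, rfl⟩
      rw [← h1] at hz
      refine ⟨F.w.conjZ z hz.1 g, ?_⟩
      show Ce t (K (g * z * g⁻¹))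
      rw [F.w.conjK z hz.1]
      have h4 := hz.2.cj g
      rwa [e'] at h4
  · rintro _ ⟨u, hu, rfl⟩ _ ⟨v, hv, rfl⟩ hc _ ⟨x, hx, rfl⟩
    have h1 := F.fr.one u hu v hv ((F.w.cm_conj_iff (hsub u hu) (hsub v hv) g).1 hc) x hx
    show Ce (g * u * g⁻¹ * (g * v * g⁻¹)) (K (g * x * g⁻¹))
    rw [F.w.conjK x (hsub x hx)]
    have h2 := h1.cj g
    have h3 : g * (u * v) * g⁻¹ = g * u * g⁻¹ * (g * v * g⁻¹) := by group
    rwa [h3] at h2
  · obtain ⟨a, ha, b, hb, c, hc, hab, hac, hbc⟩ := F.three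
    refine ⟨g * a * g⁻¹, F.w.om_conj ha g, g * b * g⁻¹, F.w.om_conj hb g, g * c * g⁻¹, F.w.om_conj hc g, ?_, ?_, ?_⟩
    · intro h; exact hab (by rw [← e a, h, e])
    · intro h; exact hac (by rw [← e a, h, e])
    · intro h; exact hbc (by rw [← e b, h, e])

/-- two other members -/
theorem exists_two {z : G} (_ : z ∈ OmZ Z K S) :
    ∃ u ∈ OmZ Z K S, ∃ v ∈ OmZ Z K S, z ≠ u ∧ z ≠ v ∧ u ≠ v := by
  obtain ⟨a, ha, b, hb, c, hc, hab, hac, hbc⟩ := F.three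
  by_cases h1 : z = a
  · subst h1; exact ⟨b, hb, c, hc, hab, hac, hbc⟩
  by_cases h2 : z = b
  · subst h2; exact ⟨a, ha, c, hc, h1, hbc, hac⟩
  · exact ⟨a, ha, b, hb, h1, h2, hab⟩

omit [Finite G] in
theorem mul_ne {u v : G} (hv : v ∈ OmZ Z K S) (h : u ≠ v) : u * v ≠ 1 := fun h1 =>
  h (by rw [← F.w.inv hv.1]; exact eq_inv_of_mul_eq_one_left h1)

theorem exists_t : ∃ t ∈ T0 Z K S, t ≠ 1 := by
  obtain ⟨a, ha, b, hb, -, -, hab, -, -⟩ := F.three
  exact ⟨a * b, F.w.mul_mem_T0 ha hb, F.mul_ne hb hab⟩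

theorem kk_Z {u : G} (hu : u ∈ KK) : u ∈ Z := by
  obtain ⟨t, ht, ht1⟩ := F.exists_t
  rw [← F.fr.om t ht ht1] at hu
  exact hu.1

theorem kk_ce {u : G} (hu : u ∈ KK) {t : G} (ht : t ∈ T0 Z K S) : Ce t (K u) := by
  by_cases h1 : t = 1
  · rw [h1]; exact Ce.one _
  · rw [← F.fr.om t ht h1] at hu
    exact hu.2

theorem mem_kk {u : G} (hu : u ∈ Z) {t : G} (ht : t ∈ T0 Z K S) (ht1 : t ≠ 1) (h : Ce t (K u)) : u ∈ KK := by
  rw [← F.fr.om t ht ht1]
  exact ⟨hu, h⟩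

/-- `M₀` stabilises `KK` -/
theorem kk_conj {g z : G} (hg : g ∈ M0 Z K S) (hz : z ∈ KK) : g * z * g⁻¹ ∈ KK := by
  obtain ⟨t, ht, ht1⟩ := F.exists_t
  have hzZ := F.kk_Z hz
  have h1 : g * t * g⁻¹ ∈ T0 Z K S := conj_mem_of_mem_normalizer hg ht
  have h2 : g * t * g⁻¹ ≠ 1 := by
    intro h
    apply ht1
    calc t = g⁻¹ * (g * t * g⁻¹) * g := by group
      _ = 1 := by rw [h]; group
  apply F.mem_kk (F.w.conjZ z hzZ g) h1 h2
  rw [F.w.conjK z hzZ]
  exact (F.kk_ce hz ht).cj g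

theorem mem_M0_of_perm {g : G} (hg : ∀ z ∈ OmZ Z K S, g * z * g⁻¹ ∈ OmZ Z K S) : g ∈ M0 Z K S :=
  mem_normalizer_of_conj_le fun _ ht => F.w.T0_nor hg ht

theorem S_le : S ≤ M0 Z K S := fun _ hs => F.mem_M0_of_perm fun _ hz => F.w.S_nor F.hS hs hz

/-- the stabiliser of `KK` is contained in `M₀` -/
theorem mem_M0_of_kk {g : G} (hg : ∀ z ∈ KK, g * z * g⁻¹ ∈ KK) : g ∈ M0 Z K S := by
  obtain ⟨D, -, hD2, hKD, -⟩ := F.w.exists_D F.hS
  set D' : Subgroup G := ⨆ u : OmZ Z K S, K u with hD'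
  have hD'D : D' ≤ D := iSup_le fun u => hKD u u.2
  have hD'2 : IsPGroup 2 D' := hD2.to_le hD'D
  have hD'B : D' ≤ Gp K KK := iSup_le fun u => le_Gp (F.fr.sub u.2)
  obtain ⟨P, hP, hDP⟩ := exists_isSyl hD'2 hD'B
  -- the conjugate of `D'`
  have h1 : cj g D' ≤ Gp K KK := by
    intro x hx
    rw [mem_cj] at hx
    have h2 : D' ≤ (Gp K KK).comap (MulAut.conj g).toMonoidHom := iSup_le fun u k hk => by
      show g * k * g⁻¹ ∈ Gp K KK
      have h3 : g * k * g⁻¹ ∈ K (g * u * g⁻¹) := by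
        rw [F.w.conjK u u.2.1]
        exact conj_mem_cj hk
      exact le_Gp (hg u (F.fr.sub u.2)) h3
    have h3 : g * (g⁻¹ * x * g) * g⁻¹ ∈ Gp K KK := h2 hx
    have e : g * (g⁻¹ * x * g) * g⁻¹ = x := by group
    rwa [e] at h3
  obtain ⟨b, hb, hb2⟩ := hP.exists_conj (isPGroup_cj hD'2) h1
  have hbM : b ∈ M0 Z K S := by
    apply mem_normalizer_of_conj_le
    intro t ht
    have h2 : Ce t (Gp K KK) := Gp_ce fun u hu => F.kk_ce hu ht
    have h3 := h2 b hb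
    rw [← h3, mul_inv_cancel_right]
    exact ht
  have hbg : b * g ∈ M0 Z K S := by
    apply F.mem_M0_of_perm
    intro z hz
    apply F.w.om_eq F.hS hP.two (fun u hu => (le_iSup (fun u : OmZ Z K S => K u) ⟨u, hu⟩).trans hDP)
      (F.w.conjZ z hz.1 _)
    rw [F.w.conjK z hz.1]
    intro x hx
    rw [mem_cj] at hx
    have h3 : (b * g)⁻¹ * x * (b * g) ∈ D' := (le_iSup (fun u : OmZ Z K S => K u) ⟨z, hz⟩) hx
    have h4 := hb2 _ (conj_mem_cj (g := g) h3)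
    have e : b * (g * ((b * g)⁻¹ * x * (b * g)) * g⁻¹) * b⁻¹ = x := by group
    rwa [e] at h4
  have : g = b⁻¹ * (b * g) := by group
  rw [this]
  exact mul_mem (inv_mem hbM) hbg

/-- `T₀` is TI -/
theorem ti {g t : G} (ht : t ∈ T0 Z K S) (ht1 : t ≠ 1) (h : g * t * g⁻¹ ∈ T0 Z K S) : g ∈ M0 Z K S := by
  apply F.mem_M0_of_kk
  intro z hz
  have hzZ := F.kk_Z hz
  have h2 : g * t * g⁻¹ ≠ 1 := by
    intro h
    apply ht1
    calc t = g⁻¹ * (g * t * g⁻¹) * g := by group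
      _ = 1 := by rw [h]; group
  apply F.mem_kk (F.w.conjZ z hzZ g) h h2
  rw [F.w.conjK z hzZ]
  exact (F.kk_ce hz ht).cj g

theorem cent_le {g t : G} (ht : t ∈ T0 Z K S) (ht1 : t ≠ 1) (h : g * t = t * g) : g ∈ M0 Z K S := by
  apply F.ti ht ht1
  rw [h, mul_inv_cancel_right]
  exact ht

theorem exists_c {u : G} (hu : u ∈ KK) : ∃ c ∈ M0 Z K S, c * u * c⁻¹ ∈ OmZ Z K S := by
  obtain ⟨t, ht, ht1⟩ := F.exists_t
  rw [← F.fr.om t ht ht1] at hu
  obtain ⟨c, hc, hcu⟩ := F.w.om_into F.hS (fun z hz => F.w.T0_ce F.hS ht hz) hu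
  exact ⟨c, F.cent_le ht ht1 hc, hcu⟩

/-- the T-triple lemma in the frame -/
theorem triple {x u v : G} (hx : x ∈ Z) (hu : u ∈ OmZ Z K S) (hv : v ∈ OmZ Z K S) (huv : u ≠ v)
    (hxu : x * u = u * x) (hxv : x * v = v * x) (h1 : ¬ Cm (K x) (K u)) (h2 : ¬ Cm (K x) (K v)) : x ∈ KK := by
  by_contra hno
  have hce : ∀ t ∈ T0 Z K S, t ≠ 1 → ¬ Ce t (K x) := fun t ht ht1 h => hno (F.mem_kk hx ht ht1 h)
  have huvT := F.w.mul_mem_T0 hu hv
  have huv1 := F.mul_ne hv huv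
  rcases F.w.triple x hx u hu.1 v hv.1 (F.w.om_cm hu hv huv F.hS.two) hxu hxv h1 h2 with h3 | ⟨a, ha, haa, hua, hva⟩
  · exact hce _ huvT huv1 h3
  -- `a` centralises `u v`
  have h3 : u * v * a * (u * v)⁻¹ = a := by
    calc u * v * a * (u * v)⁻¹ = u * (v * a * v⁻¹) * u⁻¹ := by group
      _ = (u * a * u⁻¹)⁻¹ := by rw [hva]; group
      _ = a := by rw [hua, inv_inv]
  have h4 : a * (u * v) = (u * v) * a := by
    conv_lhs => rw [← h3]
    group
  have haM : a ∈ M0 Z K S := F.cent_le huvT huv1 h4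
  -- `a` centralises `T₀`
  have hxT : x ∉ T0 Z K S := fun h => hce x h (F.w.ne x hx) (F.w.ce_self hx)
  have hxKx := F.w.mem x hx
  have hCx : ∀ t ∈ T0 Z K S, t * x = x * t := by
    intro t ht
    -- `x = a²`
    have h5 : a * t * a⁻¹ ∈ T0 Z K S := conj_mem_of_mem_normalizer haM ht
    -- `u⁻¹ (a⁻¹ u a) = x`
    have h6 : a⁻¹ * u * a = u * x := by
      have h7 : u * a = a⁻¹ * u := by rw [← hua]; group
      calc a⁻¹ * u * a = (a⁻¹ * u) * a := by group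
        _ = u * a * a := by rw [← h7]
        _ = u * (a * a) := by group
        _ = u * x := by rw [haa]
    have h8 : a⁻¹ * u * a ∈ KK := by
      have := F.kk_conj (inv_mem haM) (F.fr.sub hu)
      rwa [inv_inv] at this
    have h9 : Ce t (K (a⁻¹ * u * a)) := F.kk_ce h8 ht
    have h10 := h9 _ (F.w.mem _ (F.kk_Z h8))
    have h11 : t * u = u * t := F.w.T0_ce F.hS ht hu u (F.w.mem u hu.1)
    rw [h6] at h10
    calc t * x = u⁻¹ * (t * u * x) := by rw [h11]; group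
      _ = u⁻¹ * (t * (u * x)) := by group
      _ = u⁻¹ * (u * x * t) := by rw [h10]
      _ = x * t := by group
  have hTa : ∀ t ∈ T0 Z K S, t * a = a * t := by
    intro t ht
    have h5 : a * t * a⁻¹ ∈ T0 Z K S := conj_mem_of_mem_normalizer haM ht
    have h6 : a * t * a⁻¹ * t⁻¹ ∈ T0 Z K S := mul_mem h5 (inv_mem ht)
    have h7 : a * t * a⁻¹ * t⁻¹ ∈ K x := by
      have h8 : t * a⁻¹ * t⁻¹ ∈ K x := by
        have h9 := F.w.K_nor hx (hCx t ht)
        rw [← h9]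
        exact conj_mem_cj (inv_mem ha)
      have : a * t * a⁻¹ * t⁻¹ = a * (t * a⁻¹ * t⁻¹) := by group
      rw [this]
      exact mul_mem ha h8
    rcases F.w.uniq x hx _ h7 (F.w.TS_sq F.hS (F.w.T0_le h6)) with h8 | h8
    · have h9 : a * t * a⁻¹ = t := by
        rw [mul_inv_eq_one] at h8; exact h8
      calc t * a = a * t * a⁻¹ * a := by rw [h9]
        _ = a * t := by group
    · rw [h8] at h6; exact absurd h6 hxT
  have hta : ∀ t ∈ T0 Z K S, t ≠ 1 → Ce (t * a) (K x) := fun t ht ht1 =>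
    (F.w.quat x hx a ha haa t (F.w.TS_sq F.hS (F.w.T0_le ht)) (hTa t ht)).resolve_left (hce t ht ht1)
  have hmul : ∀ t ∈ T0 Z K S, ∀ t' ∈ T0 Z K S, t ≠ 1 → t' ≠ 1 → t * t' ≠ 1 → False := by
    intro t ht t' ht' ht1 ht1' htt
    apply hce _ (mul_mem ht ht') htt
    have h5 := (hta t ht ht1).mul (hta t' ht' ht1')
    have h6 : t * a * (t' * a) = t * t' * x := by
      calc t * a * (t' * a) = t * (a * t') * a := by group
        _ = t * (t' * a) * a := by rw [hTa t' ht']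
        _ = t * t' * (a * a) := by group
        _ = t * t' * x := by rw [haa]
    rw [h6] at h5
    have h7 := h5.mul (F.w.ce_self hx)
    have h8 : t * t' * x * x = t * t' := by
      rw [mul_assoc, F.w.sq x hx, mul_one]
    rwa [h8] at h7
  -- three members
  have hthird : ∃ y ∈ OmZ Z K S, u ≠ y ∧ v ≠ y := by
    obtain ⟨p, hp, q, hq, hup, huq, hpq⟩ := F.exists_two hu
    by_cases h5 : v = p
    · exact ⟨q, hq, huq, by rw [h5]; exact hpq⟩
    · exact ⟨p, hp, hup, h5⟩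
  obtain ⟨y, hy, huy, hvy⟩ := hthird
  refine hmul (u * v) huvT (v * y) (F.w.mul_mem_T0 hv hy) huv1 (F.mul_ne hy hvy) ?_
  have : u * v * (v * y) = u * y := by
    calc u * v * (v * y) = u * (v * v) * y := by group
      _ = u * y := by rw [F.w.sq v hv.1, mul_one]
  rw [this]
  exact F.mul_ne hy huy

/-- `O₂(C(z)) ≤ M₀` for `z ∈ OmZ S` -/
theorem oP_le_M0 {z : G} (hz : z ∈ OmZ Z K S) : oP 2 (centralizer {z}) ≤ M0 Z K S := by
  obtain ⟨D, hDS, hD2, hKD, -⟩ := F.w.exists_D F.hS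
  set D' : Subgroup G := ⨆ u : OmZ Z K S, K u with hD'
  have hD'D : D' ≤ D := iSup_le fun u => hKD u u.2
  have hD'2 : IsPGroup 2 D' := hD2.to_le hD'D
  have hD'C : D' ≤ centralizer {z} := iSup_le fun u k hk => by
    rw [mem_centralizer_singleton_iff]
    by_cases h : (u : G) = z
    · have hk' : k ∈ K z := by rw [← h]; exact hk
      exact (F.w.ce_self hz.1 k hk').symm
    · exact F.w.om_cm u.2 hz h F.hS.two k hk z (F.w.mem z hz.1)
  have h1 : IsPGroup 2 (D' ⊔ oP 2 (centralizer {z}) : Subgroup G) :=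
    OneBasic.isPGroup_sup_of_normalizes hD'2 (isPGroup_oP 2 _) (hD'C.trans (le_normalizer_oP 2 _))
  intro p hp
  apply F.mem_M0_of_perm
  intro u hu
  exact F.w.om_perm F.hS h1 (fun v hv => (le_iSup (fun u : OmZ Z K S => K u) ⟨v, hv⟩).trans le_sup_left)
    ((le_sup_right : oP 2 (centralizer {z}) ≤ _) hp) hu

theorem om_mem_oP {z u : G} (hz : z ∈ OmZ Z K S) (hu : u ∈ OmZ Z K S) : u ∈ oP 2 (centralizer {z}) := by
  by_cases h : z = u
  · subst h; exact self_mem_oP (F.w.sq z hz.1)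
  · exact F.w.nil z hz.1 u hu.1 (F.w.om_cm hz hu h F.hS.two)

theorem T0_le_oP {z : G} (hz : z ∈ OmZ Z K S) : T0 Z K S ≤ oP 2 (centralizer {z}) := by
  conv_lhs => unfold T0
  rw [closure_le]
  rintro _ ⟨u, hu, v, hv, rfl⟩
  exact mul_mem (F.om_mem_oP hz hu) (F.om_mem_oP hz hv)

/-- Step (2): `C(z) ≤ M₀` for `z ∈ OmZ S` -/
theorem cent_om {z g : G} (hz : z ∈ OmZ Z K S) (hg : g * z = z * g) : g ∈ M0 Z K S := by
  by_contra hgM
  have F' := F.conj g
  set S' := cj g S with hS'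
  set KK' := (fun z => g * z * g⁻¹) '' KK with hKK'
  have hzg : g * z * g⁻¹ = z := by rw [hg, mul_inv_cancel_right]
  have hz' : z ∈ OmZ Z K S' := by
    have := F.w.om_conj hz g
    rwa [hzg] at this
  -- `T₀ ∩ T₁ = 1`
  have hti : ∀ t ∈ T0 Z K S, t ∈ T0 Z K S' → t = 1 := by
    intro t ht ht'
    by_contra ht1
    rw [hS', F.w.T0_cj, mem_cj] at ht'
    apply hgM
    have e : g * (g⁻¹ * t * g) * g⁻¹ = t := by group
    refine F.ti ht' ?_ (by rw [e]; exact ht)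
    intro h
    apply ht1
    rw [← e, h]; group
  -- they commute
  have hcomm : ∀ t ∈ T0 Z K S, ∀ s ∈ T0 Z K S', t * s = s * t := by
    intro t ht s hs
    have h1 : s ∈ M0 Z K S := F.oP_le_M0 hz (F'.T0_le_oP hz' hs)
    have h2 : t ∈ M0 Z K S' := F'.oP_le_M0 hz' (F.T0_le_oP hz ht)
    have h3 : t * s * t⁻¹ * s⁻¹ ∈ T0 Z K S := by
      have : t * s * t⁻¹ * s⁻¹ = t * (s * t⁻¹ * s⁻¹) := by group
      rw [this]
      exact mul_mem ht (conj_mem_of_mem_normalizer h1 (inv_mem ht))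
    have h4 : t * s * t⁻¹ * s⁻¹ ∈ T0 Z K S' :=
      mul_mem (conj_mem_of_mem_normalizer h2 hs) (inv_mem hs)
    have h5 := hti _ h3 h4
    calc t * s = (t * s * t⁻¹ * s⁻¹) * (s * t) := by group
      _ = s * t := by rw [h5, one_mul]
  obtain ⟨x, hx, -, -, hzx, -, -⟩ := F.exists_two hz
  obtain ⟨a, ha, b, hb, hza, hzb, hab⟩ := F'.exists_two hz'
  have hzxT := F.w.mul_mem_T0 hz hx
  have hzx1 := F.mul_ne hx hzx
  have hCzx := F.w.om_cm hz hx hzx F.hS.two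
  -- (A)
  have hA : x ∉ KK' := by
    intro hxK
    have h1 := F'.fr.one x hxK z (F'.fr.sub hz') hCzx.symm
    have h2 : x ∈ OmZ Z K S' := by
      apply F.w.om_of_cm F'.hS hx.1
      intro y hy hyx
      by_cases hyz : y = z
      · rw [hyz]; exact hCzx
      · apply F.w.csymm y hy.1 x hx.1 _ hyx
        have h3 : Ce z (K y) := fun k hk => (F.w.om_cm hz' hy (Ne.symm hyz) F'.hS.two) z (F.w.mem z hz.1) k hk
        have h4 := (h1 y (F'.fr.sub hy)).mul h3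
        have h5 : x * z * z = x := by rw [mul_assoc, F.w.sq z hz.1, mul_one]
        rwa [h5] at h4
    exact hzx1 (hti _ hzxT (F.w.mul_mem_T0 hz' h2))
  -- (B)
  have hB : ∀ c ∈ OmZ Z K S', z ≠ c → ¬ Cm (K x) (K c) := by
    intro c hc hzc h
    apply hA
    apply F'.mem_kk hx.1 (F.w.mul_mem_T0 hz' hc) (F'.mul_ne hc hzc)
    exact Ce.mul (fun k hk => hCzx z (F.w.mem z hz.1) k hk) (fun k hk => (h k hk c (F.w.mem c hc.1)).symm)
  have hxc : ∀ c ∈ OmZ Z K S', x * c = c * x := by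
    intro c hc
    have h1 := hcomm _ hzxT _ (F.w.mul_mem_T0 hz' hc)
    have h2 : z * x = x * z := hCzx z (F.w.mem z hz.1) x (F.w.mem x hx.1)
    have h3 : z * c = c * z := by
      by_cases h : z = c
      · rw [h]
      · exact F.w.om_cm hz' hc h F'.hS.two z (F.w.mem z hz.1) c (F.w.mem c hc.1)
    calc x * c = (x * (z * z) * c) := by rw [F.w.sq z hz.1, mul_one]
      _ = (x * z) * (z * c) := by group
      _ = (z * x) * (z * c) := by rw [h2]
      _ = (z * c) * (z * x) := h1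
      _ = (c * z) * (z * x) := by rw [h3]
      _ = c * (z * z) * x := by group
      _ = c * x := by rw [F.w.sq z hz.1, mul_one]
  exact hA (F'.triple hx.1 ha hb hab (hxc a ha) (hxc b hb) (hB a ha hza) (hB b hb hzb))

/-- Step (2): `C(z) ≤ M₀` for `z ∈ KK` -/
theorem cent_kk {z g : G} (hz : z ∈ KK) (hg : g * z = z * g) : g ∈ M0 Z K S := by
  obtain ⟨c, hc, hcz⟩ := F.exists_c hz
  have h1 : c * g * c⁻¹ ∈ M0 Z K S := by
    apply F.cent_om hcz
    calc c * g * c⁻¹ * (c * z * c⁻¹) = c * (g * z) * c⁻¹ := by group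
      _ = c * (z * g) * c⁻¹ := by rw [hg]
      _ = c * z * c⁻¹ * (c * g * c⁻¹) := by group
  have : g = c⁻¹ * (c * g * c⁻¹) * c := by group
  rw [this]
  exact mul_mem (mul_mem (inv_mem hc) h1) hc

end Fs

end Cfsg.Agent.Cit.Nil.AN
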